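import Cfsg.Agent.StdU3.Lev0
import Cfsg.Agent.StdU3.Lev1
import Cfsg.Agent.StdU3.Lev2

/-!
# Standard subgroups of type `U₃(2ⁿ)`, non-cyclic case: the data
-/

set_option autoImplicit false

namespace Cfsg.Lib.GMS.U3

open Subgroup Cfsg.Lib.Gold Cfsg.Lib.Trans Cfsg.Lib.StdSz Cfsg.Lib.StdU3
open scoped commutatorElement

variable {G : Type*} [Group G] {F K : Type*} [Field F] [Field K] [Algebra F K] {τ : Qx F K}

/-- The data at a non-cyclic Sylow 2-subgroup `E` of the centraliser. -/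
structure Dat (G : Type*) [Group G] {F K : Type*} [Field F] [Field K] [Algebra F K]
    (τ : Qx F K) extends UQ G τ where
  /-- the elementary abelian group -/
  E : Subgroup G
  /-- an involution -/
  t : G
  /-- the odd part of the centraliser of `E` and the standard subgroup -/
  O : Subgroup G
  t_mem : t ∈ E
  t_ne : t ≠ 1
  E_sq : ∀ e ∈ E, e * e = 1
  nE2 : ¬ ∀ e ∈ E, e = 1 ∨ e = t
  E_Q' : ∀ e ∈ E, ∀ x ∈ Q, Commute e x
  E_H' : ∀ e ∈ E, ∀ h ∈ H, Commute e h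
  O_odd : Odd (Nat.card O)
  O_E' : ∀ o ∈ O, ∀ e ∈ E, Commute o e
  O_Q : ∀ o ∈ O, ∀ x ∈ Q, Commute o x
  O_H : ∀ o ∈ O, ∀ h ∈ H, Commute o h
  nV : ∀ e ∈ E, e ≠ 1 → ∀ g, g * e * g⁻¹ ∉ toQF.V
  Eti : ∀ S : Subgroup G, IsPGroup 2 S → E ≤ S → ∀ g ∈ Ns S, ∀ e ∈ E, e ≠ 1 →
    g * e * g⁻¹ ∈ E → g ∈ Ns E
  cent : ∀ g ∈ Ns E, Commute g t → g ∈ toQF.Tr0 → ∃ e ∈ E, ∃ x ∈ Q, ∃ o ∈ O, g = e * x * o
  two_mem : ∀ g ∈ Ns E, g ∈ toQF.Tr0 → ∀ k : ℕ, g ^ 2 ^ k = 1 → g ∈ E ⊔ Q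
  ti : ∀ g ∈ Ns E, ∀ b, b ≠ 0 → g * v b * g⁻¹ ∈ Ns Q → g ∈ Ns Q

/-- `E × Q`. -/
def Dat.TT (D : Dat G τ) : Subgroup G := D.E ⊔ D.Q

/-- The first level `S = Q ∘ (E W)`, of order `|E| q ^ 4`. -/
structure Lev1 (D : Dat G τ) where
  /-- the 2-subgroup -/
  S : Subgroup G
  /-- the coordinate along `Q / V` -/
  al : G → K
  /-- the coordinate along `E` -/
  x : G → F
  /-- the new coordinate -/
  p : G → F
  /-- the squaring constant on `W = {al = 0, x = 0}` -/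
  a : F
  two : IsPGroup 2 S
  al_add : AddOn S al
  x_add : AddOn S x
  p_add : AddOn S p
  E_le : D.E ≤ S
  Q_le : D.Q ≤ S
  al_Q : ∀ y ∈ D.Q, al y = D.α y
  x_Q : ∀ y ∈ D.Q, x y = 0
  p_Q : ∀ y ∈ D.Q, p y = 0
  al_E : ∀ e ∈ D.E, al e = 0
  p_E : ∀ e ∈ D.E, p e = 0
  x_t : x D.t = 1
  x_inj : ∀ e ∈ D.E, x e = 0 → e = 1
  x_range : ∀ g ∈ S, ∃ e ∈ D.E, x g = x e
  surj : ∀ c, ∃ g ∈ S, al g = 0 ∧ x g = 0 ∧ p g = c
  ker : ∀ g ∈ S, al g = 0 → x g = 0 → p g = 0 → g ∈ D.V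
  sq : ∀ g ∈ S, g * g = D.v (τ.N (al g) + (a + x g) * p g)
  H_S : ∀ h ∈ D.H, ∀ g ∈ S, h * g * h⁻¹ ∈ S ∧ al (h * g * h⁻¹) = D.χ h * al g ∧
    x (h * g * h⁻¹) = x g ∧ p (h * g * h⁻¹) = τ.N (D.χ h) * p g
  O_S : ∀ o ∈ D.O, ∀ g ∈ S, Commute o g

variable [Finite G] [Finite F] [Finite K]

namespace Dat

variable (D : Dat G τ)

omit [Finite G] [Finite F] [Finite K] in
theorem E_comm {e e' : G} (he : e ∈ D.E) (he' : e' ∈ D.E) : Commute e e' :=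
  commute_of_invol (D.E_sq e he) (D.E_sq e' he') (D.E_sq _ (D.E.mul_mem he he'))

omit [Finite F] [Finite K] in
theorem mem_Ns_E {g : G} (hg : ∀ e ∈ D.E, Commute g e) : g ∈ Ns D.E :=
  mem_Ns fun e he => by rw [conj_eq_of_commute (hg e he)]; exact he

omit [Finite G] [Finite F] [Finite K] in
theorem t_sq : D.t * D.t = 1 := D.E_sq _ D.t_mem

omit [Finite G] [Finite F] [Finite K] in
theorem t_inv : D.t⁻¹ = D.t := inv_eq_of_mul_eq_one_right D.t_sq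

omit [Finite G] [Finite F] [Finite K] in
theorem E_Q {e x : G} (he : e ∈ D.E) (hx : x ∈ D.Q) : Commute e x := D.E_Q' e he x hx

omit [Finite G] [Finite F] [Finite K] in
theorem E_H {e h : G} (he : e ∈ D.E) (hh : h ∈ D.H) : Commute e h := D.E_H' e he h hh

omit [Finite G] [Finite F] [Finite K] in
theorem O_E {o e : G} (ho : o ∈ D.O) (he : e ∈ D.E) : Commute o e := D.O_E' o ho e he

omit [Finite G] [Finite F] [Finite K] in
theorem t_H (h : G) (hh : h ∈ D.H) : Commute h D.t := (D.E_H D.t_mem hh).symm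

omit [Finite G] [Finite F] [Finite K] in
theorem O_t (o : G) (ho : o ∈ D.O) : Commute o D.t := D.O_E ho D.t_mem

omit [Finite F] [Finite K] in
theorem Q_Ns (x : G) (hx : x ∈ D.Q) : x ∈ Ns D.E := D.mem_Ns_E fun _ he => (D.E_Q he hx).symm

omit [Finite G] [Finite F] [Finite K] in
theorem E_le_TT : D.E ≤ D.TT := le_sup_left

omit [Finite G] [Finite F] [Finite K] in
theorem Q_le_TT : D.Q ≤ D.TT := le_sup_right

omit [Finite G] [Finite F] [Finite K] in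
theorem t_mem_TT : D.t ∈ D.TT := D.E_le_TT D.t_mem

omit [Finite F] [Finite K] in
theorem mem_TT {g : G} : g ∈ D.TT ↔ ∃ e ∈ D.E, ∃ x ∈ D.Q, g = e * x :=
  Solv.PG.mem_sup_iff_of_le_normalizer D.Q_Ns

omit [Finite G] [Finite F] [Finite K] in
theorem sq_EQ {e x : G} (he : e ∈ D.E) (hx : x ∈ D.Q) : e * x * (e * x) = x * x := by
  rw [show e * x * (e * x) = e * (x * e) * x by group, ← (D.E_Q he hx).eq,
    show e * (e * x) * x = e * e * (x * x) by group, D.E_sq e he, one_mul]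

omit [Finite F] [Finite K] in
theorem sq_mem_V {g : G} (hg : g ∈ D.TT) : g * g ∈ D.V := by
  obtain ⟨e, he, x, hx, rfl⟩ := D.mem_TT.1 hg
  rw [D.sq_EQ he hx]; exact ⟨_, D.sq x hx⟩

omit [Finite K] in
theorem pow_four {g : G} (hg : g ∈ D.TT) : g ^ 2 ^ 2 = 1 := by
  obtain ⟨b, hb⟩ := D.sq_mem_V hg
  rw [show g ^ 2 ^ 2 = g * g * (g * g) by norm_num [pow_succ, mul_assoc], hb, D.v_sq]

omit [Finite K] in
theorem two_TT : IsPGroup 2 D.TT := two_of_pow fun _ hx => ⟨2, D.pow_four hx⟩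

omit [Finite G] [Finite K] in
theorem TT_le_Tr0 : D.TT ≤ D.Tr0 :=
  sup_le (fun _ he => D.mem_Tr0_of_Cs fun _ hx => D.E_Q he hx) D.Q_le_Tr0

omit [Finite F] [Finite K] in
theorem TT_E {g e' : G} (hg : g ∈ D.TT) (he' : e' ∈ D.E) : Commute g e' := by
  obtain ⟨e, he, x, hx, rfl⟩ := D.mem_TT.1 hg
  exact (D.E_comm he he').mul_left (D.E_Q he' hx).symm

omit [Finite F] [Finite K] in
theorem TT_t {g : G} (hg : g ∈ D.TT) : Commute g D.t := D.TT_E hg D.t_mem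

omit [Finite F] [Finite K] in
theorem O_TT {o g : G} (ho : o ∈ D.O) (hg : g ∈ D.TT) : Commute o g := by
  obtain ⟨e, he, x, hx, rfl⟩ := D.mem_TT.1 hg
  exact (D.O_E ho he).mul_right (D.O_Q o ho x hx)

omit [Finite K] in
theorem invol_TT {g : G} (hg : g ∈ D.TT) (h : g * g = 1) : ∃ e ∈ D.E, ∃ b, g = e * D.v b := by
  obtain ⟨e, he, x, hx, rfl⟩ := D.mem_TT.1 hg
  rw [D.sq_EQ he hx] at h
  obtain ⟨b, rfl⟩ := D.mem_V_of hx h
  exact ⟨e, he, b, rfl⟩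

omit [Finite G] [Finite F] [Finite K] in
theorem not_conj_V {e : G} (he : e ∈ D.E) (h1 : e ≠ 1) (g : G) : g * e * g⁻¹ ∉ D.V := D.nV e he h1 g

omit [Finite G] [Finite F] [Finite K] in
theorem mem_TT_of {g : G} (hE : g ∈ Ns D.E) (hT : g ∈ D.Tr0) {k : ℕ} (h : g ^ 2 ^ k = 1) :
    g ∈ D.TT := D.two_mem g hE hT k h

omit [Finite G] [Finite F] [Finite K] in
theorem E_ti {S : Subgroup G} (hS : IsPGroup 2 S) (hE : D.E ≤ S) {e g : G} (hg : g ∈ Ns S)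
    (he : e ∈ D.E) (h1 : e ≠ 1) (h : g * e * g⁻¹ ∈ D.E) : g ∈ Ns D.E := D.Eti S hS hE g hg e he h1 h

omit [Finite G] [Finite K] in
theorem mem_Ns_Q {g : G} (hg : g ∈ Ns D.E) (hV : g ∈ Ns D.V) : g ∈ Ns D.Q :=
  D.ti g hg 1 one_ne_zero (le_normalizer (D.V_le (mem_normalizer_conj hV (D.v_mem_V 1))))

omit [Finite K] in
/-- An element of odd order centralising `E` and `Q` lies in `O`. -/
theorem mem_O_of {g : G} (ht : ∀ e ∈ D.E, Commute g e) (hQ : ∀ x ∈ D.Q, Commute g x)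
    (ho : Odd (orderOf g)) : g ∈ D.O := by
  obtain ⟨e, he, x, hx, o, ho', rfl⟩ := D.cent g (D.mem_Ns_E ht) (ht _ D.t_mem)
    (D.mem_Tr0_of_Cs hQ)
  have hy : e * x ∈ D.TT := D.mem_TT.2 ⟨e, he, x, hx, rfl⟩
  exact mem_of_odd_mul (D.O_TT ho' hy).symm (D.pow_four hy) ho' ho

omit [Finite K] in
theorem Ns_le_O {A : Subgroup G} (hT : D.TT ≤ A) (hO : ∀ o ∈ D.O, ∀ x ∈ A, Commute o x) :
    Ns A ≤ Ns D.O := fun g hg => mem_Ns fun o ho => by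
  have key : ∀ x ∈ A, Commute (g * o * g⁻¹) x := fun x hx => by
    have := commute_conj (hO o ho _ (mem_normalizer_conj' hg hx)) g
    rwa [show g * (g⁻¹ * x * g) * g⁻¹ = x by group] at this
  refine D.mem_O_of (fun e he => key _ (hT (D.E_le_TT he))) (fun x hx => key x (hT (D.Q_le_TT hx))) ?_
  have := odd_orderOf D.O_odd ho
  rwa [← (SemiconjBy.conj_mk g o).orderOf_eq]

omit [Finite G] [Finite F] [Finite K] in
theorem scalar_O {g h h' o : G} (hg : g ∈ Ns D.O) (hh : h ∈ D.H) (hh' : h' ∈ D.H) (ho : o ∈ D.O) :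
    Commute o (g * h * g⁻¹ * h'⁻¹) := by
  have := commute_conj (D.O_H _ (mem_normalizer_conj' hg ho) h hh) g
  rw [show g * (g⁻¹ * o * g) * g⁻¹ = o by group] at this
  exact this.mul_right (D.O_H o ho h' hh').inv_right

omit [Finite K] in
theorem mk_level {M : Type*} [AddCommGroup M] (hM : ∀ m : M, m + m = 0) {A N Y : Subgroup G}
    (hA : IsPGroup 2 A) (hT : D.TT ≤ A) (hO : ∀ o ∈ D.O, ∀ x ∈ A, Commute o x) (hNA : N ≤ Ns A)
    (hAY : A ≤ Y) (hOY : D.O ≤ Y) (_hYN : Y ≤ N) (hNY : N ≤ Ns Y) (p : G → M) (hp : AddOn Y p)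
    (hpO : ∀ o ∈ D.O, p o = 0)
    (hker : ∀ y ∈ Y, p y = 0 → ∃ a ∈ A, ∃ o ∈ D.O, y = a * o) :
    ∃ A' : Subgroup G, IsPGroup 2 A' ∧ A ≤ A' ∧ A' ≤ Y ∧ N ≤ Ns A' ∧
      (∀ o ∈ D.O, ∀ x ∈ A', Commute o x) ∧ (∀ y ∈ A', p y = 0 → y ∈ A) ∧
      ∀ y ∈ Y, (∀ o ∈ D.O, Commute o y) → ∃ y' ∈ A', p y' = p y := by
  obtain ⟨P, hP, hm, hd⟩ := exists_two_part (Y := Y ⊓ Cs D.O) D.O_odd
    (fun y hy => mem_Cs.1 hy.2) fun y hy => by
      obtain ⟨a, ha, o, ho, e⟩ := hker _ (Y.mul_mem hy.1 hy.1) (by rw [hp y hy.1 y hy.1, hM])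
      obtain ⟨k, hk⟩ := pow_of_two hA ha
      refine ⟨k + 1, ?_⟩
      rw [pow_succ', pow_mul, sq, e, (hO o ho a ha).symm.mul_pow, hk, one_mul]
      exact D.O.pow_mem ho _
  have hAP : A ≤ P := fun a ha =>
    (hm a).2 ⟨⟨hAY ha, mem_Cs.2 fun o ho => (hO o ho a ha).symm⟩, pow_of_two hA ha⟩
  have hPY : P ≤ Y := fun y hy => ((hm y).1 hy).1.1
  refine ⟨P, hP, hAP, hPY, fun n hn => mem_Ns fun y hy => ?_,
    fun o ho x hx => (mem_Cs.1 ((hm x).1 hx).1.2 o ho).symm, fun y hy h0 => ?_, fun y hy hc => ?_⟩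
  · obtain ⟨⟨h1, h2⟩, k, hk⟩ := (hm y).1 hy
    exact (hm _).2 ⟨⟨mem_normalizer_conj (hNY hn) h1, mem_normalizer_conj
      (normalizer_le_normalizer_centralizer _ (D.Ns_le_O hT hO (hNA hn))) h2⟩, k, by
        rw [conj_pow, hk]; group⟩
  · obtain ⟨a, ha, o, ho, rfl⟩ := hker y (hPY hy) h0
    obtain ⟨k, hk⟩ := pow_of_two hP ((P.mul_mem_cancel_left (hAP ha)).1 hy)
    rw [eq_one_of_odd_pow (odd_orderOf D.O_odd ho) hk, mul_one]
    exact ha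
  · obtain ⟨x, hx, o, ho, rfl⟩ := hd y ⟨hy, mem_Cs.2 fun o ho => (hc o ho).symm⟩
    exact ⟨x, hx, by rw [hp x (hPY hx) o (hOY ho), hpO o ho, add_zero]⟩

omit [Finite G] [Finite K] in
/-- the type-W lemma -/
theorem tw (C : CF G τ.B) (hv : C.v = D.v) (hQ : D.Q ≤ C.P) (hα : ∀ x ∈ D.Q, C.π x = D.α x)
    (hΩ : ∀ z ∈ C.P, C.π z = 0 → z * z = 1 → z ∈ D.V)
    (hH : ∀ h ∈ D.H, ∀ x ∈ C.P, h * x * h⁻¹ ∈ C.P ∧ C.π (h * x * h⁻¹) = D.χ h * C.π x)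
    {g e : G} (hg : g ∈ Ns C.P) (he : ∀ h ∈ D.H, Commute e h)
    (hi : ∃ x ∈ D.Q, x⁻¹ * (g * e * g⁻¹) ∈ Cs D.Q) : g * e * g⁻¹ ∈ Cs D.Q := by
  obtain ⟨σ, μ, f, hμ, hf, -, hπ, hgv⟩ := C.act τ.symp hg
  rw [hv] at hgv
  obtain ⟨l, hl0, hl1⟩ := exists_ne_zero_one (F := F) (by have := D.big; omega)
  obtain ⟨h, hh, hχ⟩ := D.χ_F l hl0
  obtain ⟨x0, hx0, hc⟩ := hi
  have a1 : ∀ x ∈ C.P, g * h * g⁻¹ * x * (g * h * g⁻¹)⁻¹ ∈ C.P ∧
      C.π (g * h * g⁻¹ * x * (g * h * g⁻¹)⁻¹) = σ l • C.π x := fun x hx => by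
    have hy := mem_normalizer_conj' hg hx
    have e1 := hπ _ hy
    rw [show g * (g⁻¹ * x * g) * g⁻¹ = x by group] at e1
    rw [show g * h * g⁻¹ * x * (g * h * g⁻¹)⁻¹ = g * (h * (g⁻¹ * x * g) * h⁻¹) * g⁻¹ by group]
    refine ⟨mem_normalizer_conj hg (hH h hh _ hy).1, ?_⟩
    rw [hπ _ (hH h hh _ hy).1, (hH h hh _ hy).2, hχ, ← Algebra.smul_def, hf, ← e1]
  have a2 : ∀ b, g * h * g⁻¹ * D.v b * (g * h * g⁻¹)⁻¹ = D.v (σ l * σ l * b) := fun b => by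
    obtain ⟨b, rfl⟩ : ∃ b', b = μ * σ b' := ⟨σ.symm (b / μ), by simp [mul_div_cancel₀ _ hμ]⟩
    rw [← hgv, show g * h * g⁻¹ * (g * D.v b * g⁻¹) * (g * h * g⁻¹)⁻¹ =
      g * (h * D.v b * h⁻¹) * g⁻¹ by group, D.H_v hh, hgv, hχ, τ.N_alg, map_mul, map_mul]
    congr 1; ring
  have a3 : Commute (g * h * g⁻¹) (g * e * g⁻¹) := commute_conj (he h hh).symm g
  generalize g * h * g⁻¹ = k at a1 a2 a3
  generalize g * e * g⁻¹ = e' at a3 hc
  have a4 : ∀ x ∈ D.Q, k * x * k⁻¹ ∈ D.Q := fun x hx => by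
    obtain ⟨x', hx', e1⟩ := D.α_surj (σ l • D.α x)
    have hz := C.P.mul_mem (C.P.inv_mem (hQ hx')) (a1 x (hQ hx)).1
    have hz0 : C.π (x'⁻¹ * (k * x * k⁻¹)) = 0 := by
      rw [C.π_add _ (C.P.inv_mem (hQ hx')) _ (a1 x (hQ hx)).1, C.π_add.inv (hQ hx'),
        (a1 x (hQ hx)).2, hα x' hx', hα x hx, e1, neg_add_cancel]
    have hzc := ((C.π_eq_zero_iff τ.symp hz).1 hz0 x' (hQ hx')).symm
    have e2 : k * x * k⁻¹ * (k * x * k⁻¹) = x' * x' := by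
      rw [conj_sq, D.sq x hx, a2, D.sq x' hx', e1, τ.N_smul]
    have e3 : k * x * k⁻¹ = x' * (x'⁻¹ * (k * x * k⁻¹)) := by group
    rw [e3]
    refine D.Q.mul_mem hx' (D.V_le (hΩ _ hz hz0 ?_))
    rw [e3, ← sq, hzc.mul_pow, sq, mul_eq_left, sq] at e2
    exact e2
  have a5 : ∀ x ∈ D.Q, ⁅e', x⁆ = D.v (τ.B (D.α x0) (D.α x)) := fun x hx => by
    rw [← D.comm hx0 hx, commutatorElement_def, commutatorElement_def,
      show e' * x * e'⁻¹ = x0 * (x0⁻¹ * e' * x * (x0⁻¹ * e')⁻¹) * x0⁻¹ by group,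
      conj_eq_of_commute (mem_Cs.1 hc x hx)]
  have a6 : D.α x0 = 0 := τ.eq_zero_of_B fun c => by
    obtain ⟨x, hx, rfl⟩ := D.α_surj c
    have e1 := a5 _ (a4 x hx)
    rw [← conj_eq_of_commute a3, conj_comm, a5 x hx, a2, ← hα _ (a4 x hx), (a1 x (hQ hx)).2,
      hα x hx, map_smul, smul_eq_mul] at e1
    have e2 := D.v_inj e1
    have h0 : σ l ≠ 0 := (map_ne_zero σ).2 hl0
    have h1 : σ l ≠ 1 := fun h => hl1 (σ.injective (h.trans (map_one σ).symm))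
    by_contra hB
    exact h1 (mul_right_cancel₀ h0 ((mul_right_cancel₀ hB e2).trans (one_mul _).symm))
  have := mul_mem (D.Cs_of_α hx0 a6) hc
  rwa [mul_inv_cancel_left] at this

omit [Finite G] [Finite F] [Finite K] in
theorem EV_inj {e e' : G} (he : e ∈ D.E) (he' : e' ∈ D.E) {b b' : F}
    (h : e * D.v b = e' * D.v b') : e = e' ∧ b = b' := by
  have h1 : e'⁻¹ * e = 1 := by_contra fun h1 => D.not_conj_V (mul_mem (inv_mem he') he) h1 1 (by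
    rw [show 1 * (e'⁻¹ * e) * 1⁻¹ = e'⁻¹ * (e * D.v b) * (D.v b)⁻¹ by group, h,
      inv_mul_cancel_left]
    exact mul_mem (D.v_mem_V _) (inv_mem (D.v_mem_V _)))
  obtain rfl := inv_mul_eq_one.1 h1
  exact ⟨rfl, D.v_inj (mul_left_cancel h)⟩

omit [Finite F] [Finite K] in
theorem H_le_TT : D.H ≤ Ns D.TT :=
  Solv.PG.le_normalizer_sup (fun _ hh => D.mem_Ns_E fun _ he => (D.E_H he hh).symm) D.H_Q

omit [Finite K] in
theorem Ns_TT_le : Ns D.TT ≤ Ns D.V := fun g hg => mem_Ns (by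
  rintro _ ⟨b, rfl⟩
  obtain ⟨x, hx, e⟩ := D.exists_sq b
  rw [← e, ← conj_sq]
  exact D.sq_mem_V (mem_normalizer_conj hg (D.Q_le_TT hx)))

omit [Finite K] in
theorem conj_E {g e : G} (hg : g ∈ Ns D.TT) (he : e ∈ D.E) :
    ∃ e' ∈ D.E, ∃ b, g * e * g⁻¹ = e' * D.v b :=
  D.invol_TT (mem_normalizer_conj hg (D.E_le_TT he)) (by rw [conj_sq, D.E_sq e he]; group)

omit [Finite K] in
theorem exists_x (h : ¬ Ns D.TT ≤ Ns D.E) : ∃ x : G → F, AddOn D.E x ∧ x D.t = 1 ∧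
    (∀ e ∈ D.E, x e = 0 → e = 1) ∧
    ∀ y ∈ Ns D.TT, ∃ l, ∀ e ∈ D.E, ∃ e' ∈ D.E, y * e * y⁻¹ = e' * D.v (l * x e') := by
  obtain ⟨g, hg, hgE⟩ := SetLike.not_le_iff_exists.1 h
  have hV : ∀ b, D.v b ∈ cj g D.E → b = 0 := fun b hb => by_contra fun h0 =>
    D.not_conj_V (mem_cj.1 hb) (fun e => h0 (D.v_eq_one.1
      (conj_eq_one_iff.1 (by rwa [inv_inv] : g⁻¹ * D.v b * g⁻¹⁻¹ = 1)))) g (by
      simpa [mul_assoc] using D.v_mem_V b)
  have hu : ∀ e b b', e * D.v b ∈ cj g D.E → e * D.v b' ∈ cj g D.E → b = b' := fun e b b' h1 h2 => by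
    have := mul_mem (inv_mem h1) h2
    rw [mul_inv_rev, mul_assoc, inv_mul_cancel_left, D.v_inv, ← D.v_add] at this
    exact τ.add_eq_zeroF.1 (hV _ this)
  have hex : ∀ e ∈ D.E, ∃ b, e * D.v b ∈ cj g D.E := by
    choose ψ hψ φ hφ using fun e : D.E => D.conj_E hg e.2
    have hi : Function.Injective fun e : D.E => (⟨ψ e, hψ e⟩ : D.E) := fun e e' h1 => by
      have h2 : ψ e = ψ e' := congrArg Subtype.val h1
      have h3 := hu (ψ e) (φ e) (φ e') (hφ e ▸ conj_mem_cj.2 e.2) (h2 ▸ hφ e' ▸ conj_mem_cj.2 e'.2)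
      have h4 := hφ e
      rw [h2, h3, ← hφ e'] at h4
      exact Subtype.ext (by simpa using h4)
    intro e he
    obtain ⟨e', h1⟩ := Finite.injective_iff_surjective.1 hi ⟨e, he⟩
    exact ⟨φ e', by rw [← show ψ e' = e from congrArg Subtype.val h1, ← hφ]; exact conj_mem_cj.2 e'.2⟩
  choose! φ hφ using hex
  have hadd : AddOn D.E φ := fun e he e' he' => hu _ _ _ (hφ _ (mul_mem he he')) (by
    have := mul_mem (hφ e he) (hφ e' he')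
    rwa [mul_assoc, ← mul_assoc (D.v _), ← (D.E_Q he' (D.v_mem _)).eq, mul_assoc e', ← D.v_add,
      ← mul_assoc] at this)
  have hinj : ∀ e ∈ D.E, φ e = 0 → e = 1 := fun e he h0 => by_contra fun h1 => by
    have h2 := hφ e he
    rw [h0, D.v_zero, mul_one, mem_cj] at h2
    exact hgE (inv_mem_iff.1 (D.E_ti D.two_TT D.E_le_TT (inv_mem hg) he h1 (by rwa [inv_inv])))
  have ht : φ D.t ≠ 0 := mt (hinj _ D.t_mem) D.t_ne
  have hl : ∀ l, ∃ n ∈ Ns D.TT, ∀ z, z ∈ cj n D.E ↔ ∃ e ∈ D.E, z = e * D.v (l * (φ e / φ D.t)) := fun l => by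
    by_cases h0 : l = 0
    · exact ⟨1, one_mem _, fun z => by simp [cj_one, h0, D.v_zero]⟩
    obtain ⟨k, hk, e0⟩ := D.exists_N (div_ne_zero h0 ht)
    have e1 : ∀ e ∈ D.E, k * (e * D.v (φ e)) * k⁻¹ = e * D.v (l * (φ e / φ D.t)) := fun e he => by
      rw [← conj_mul, D.H_v hk, e0, conj_eq_of_commute (D.E_H he hk).symm]
      congr 2; ring
    refine ⟨k * g, mul_mem (D.H_le_TT hk) hg, fun z => ⟨fun hz => ?_, ?_⟩⟩
    · rw [cj_mul, mem_cj] at hz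
      obtain ⟨e, he, b, hb⟩ := D.conj_E hg (mem_cj.1 hz)
      rw [show g * (g⁻¹ * (k⁻¹ * z * k) * g) * g⁻¹ = k⁻¹ * z * k by group] at hb
      exact ⟨e, he, by rw [← e1 e he, hu e _ _ (hφ e he) (hb ▸ hz), ← hb]; group⟩
    · rintro ⟨e, he, rfl⟩
      rw [← e1 e he, cj_mul]
      exact conj_mem_cj.2 (hφ e he)
  have hcov : ∀ e ∈ D.E, e ≠ 1 → ∀ b, ∃ l, e * D.v b = e * D.v (l * (φ e / φ D.t)) :=
    fun e he h1 b => ⟨b / (φ e / φ D.t), by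
      rw [div_mul_cancel₀ _ (div_ne_zero (mt (hinj e he) h1) ht)]⟩
  refine ⟨fun e => φ e / φ D.t, fun e he e' he' => by simp only [hadd e he e' he', add_div],
    div_self ht, fun e he h0 => hinj e he ((div_eq_zero_iff.1 h0).resolve_right ht),
    fun y hy => ?_⟩
  · obtain ⟨e, he, b, hb⟩ := D.conj_E hy D.t_mem
    obtain ⟨l, e1⟩ := hcov e he (fun e2 => D.not_conj_V D.t_mem D.t_ne y
      ⟨b, by rw [hb, e2, one_mul]⟩) b
    obtain ⟨n, hn0, hn⟩ := hl l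
    have h1 := D.E_ti D.two_TT D.E_le_TT (mul_mem (inv_mem hn0) hy) D.t_mem D.t_ne (by
      have := mem_cj.1 ((hn _).2 ⟨e, he, hb.trans e1⟩)
      convert this using 1; group)
    refine ⟨l, fun e' he' => (hn _).1 (mem_cj.2 ?_)⟩
    convert mem_normalizer_conj h1 he' using 1; group

omit [Finite K] in
/-- Coordinates on `E × Q`. -/
theorem exists_coord {x : G → F} (hx : AddOn D.E x) : ∃ (al : G → K) (x' : G → F),
    AddOn D.TT al ∧ AddOn D.TT x' ∧ ∀ e ∈ D.E, ∀ y ∈ D.Q, al (e * y) = D.α y ∧ x' (e * y) = x e := by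
  have h0 : ∀ e ∈ D.E, e ∈ D.Q → e = 1 := fun e he hq => by_contra fun h1 =>
    D.not_conj_V he h1 1 (by simpa using D.mem_V_of hq (D.E_sq e he))
  obtain ⟨al, h1, h2⟩ := glue (A := D.Q) (B := D.E) D.Q_Ns D.α
    D.α_add fun y hy he => by rw [h0 y he hy, D.α_add.one]
  obtain ⟨x', h3, h4⟩ := glue (A := D.E) (B := D.Q) (D.E_le_TT.trans (D.TT_le_Tr0.trans D.Tr0_le))
    x hx fun e he hy => by rw [h0 e he hy, hx.one]
  exact ⟨al, x', h1.mono (sup_comm D.E D.Q).le, h3, fun e he y hy =>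
    ⟨by rw [(D.E_Q he hy).eq, h2 y hy e he], h4 e he y hy⟩⟩

omit [Finite K] in
theorem exists_S (h : ¬ Ns D.TT ≤ Ns D.E) : ∃ (x p : G → F) (S : Subgroup G), AddOn D.E x ∧
    x D.t = 1 ∧ (∀ e ∈ D.E, x e = 0 → e = 1) ∧
    IsPGroup 2 S ∧ D.TT ≤ S ∧ S ≤ D.Tr0 ∧ AddOn S p ∧ (∀ y ∈ S, p y = 0 ↔ y ∈ D.TT) ∧
    (∀ c, ∃ y ∈ S, p y = c) ∧ (∀ y ∈ S, ∀ e ∈ D.E, y * e * y⁻¹ = e * D.v (p y * x e)) ∧
    (∀ k ∈ D.H, ∀ y ∈ S, k * y * k⁻¹ ∈ S ∧ p (k * y * k⁻¹) = τ.N (D.χ k) * p y) ∧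
    ∀ o ∈ D.O, ∀ y ∈ S, Commute o y := by
  obtain ⟨x, hx, hxt, hxi, hcj⟩ := D.exists_x h
  obtain ⟨g, hg, hgE⟩ := SetLike.not_le_iff_exists.1 h
  obtain ⟨al, x', hal, hx', hc⟩ := D.exists_coord hx
  have alQ : ∀ y ∈ D.Q, al y = D.α y := fun y hy => by simpa using (hc 1 (one_mem _) y hy).1
  have hsq : ∀ a ∈ D.TT, a * a = D.v (τ.N (al a)) := fun a ha => by
    obtain ⟨e, he, y, hy, rfl⟩ := D.mem_TT.1 ha
    rw [D.sq_EQ he hy, (hc e he y hy).1, D.sq y hy]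
  have hH : ∀ k ∈ D.H, ∀ a ∈ D.TT, al (k * a * k⁻¹) = D.χ k * al a ∧ x' (k * a * k⁻¹) = x' a :=
    fun k hk a ha => by
      obtain ⟨e, he, y, hy, rfl⟩ := D.mem_TT.1 ha
      have := hc e he _ (mem_normalizer_conj (D.H_Q hk) hy)
      rw [← conj_mul, conj_eq_of_commute (D.E_H he hk).symm, this.1, this.2, (hc e he y hy).1,
        (hc e he y hy).2, D.χ_act k hk y hy]
      exact ⟨rfl, rfl⟩
  have hcV : ∀ y ∈ Ns D.TT, (∀ a ∈ D.TT, al (y * a * y⁻¹) = al a) → ∀ b,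
      y * D.v b * y⁻¹ = D.v b := fun y hy h1 b => by
    obtain ⟨a, ha, rfl, e⟩ := D.exists_sq' b
    rw [← e, ← conj_sq, hsq _ (mem_normalizer_conj hy (D.Q_le_TT ha)), h1 _ (D.Q_le_TT ha),
      alQ a ha, e]
  let Y : Subgroup G :=
    { carrier := {y | y ∈ Ns D.TT ∧ (∀ a ∈ D.TT, al (y * a * y⁻¹) = al a) ∧
        ∀ e ∈ D.E, ∃ b, y * e * y⁻¹ = e * D.v b}
      one_mem' := ⟨one_mem _, fun a _ => by simp, fun e _ => ⟨0, by simp [D.v_zero]⟩⟩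
      mul_mem' := fun {y y'} hy hy' => ⟨mul_mem hy.1 hy'.1, fun a ha => by
        rw [← hy'.2.1 a ha, ← hy.2.1 _ (mem_normalizer_conj hy'.1 ha)]; congr 1; group,
        fun e he => by
          obtain ⟨b, hb⟩ := hy.2.2 e he
          obtain ⟨b', hb'⟩ := hy'.2.2 e he
          exact ⟨b + b', by
            rw [D.v_add, ← mul_assoc, ← hb, ← hcV y hy.1 hy.2.1 b', conj_mul, ← hb']; group⟩⟩
      inv_mem' := fun {y} hy => ⟨inv_mem hy.1, fun a ha => by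
        rw [← hy.2.1 _ (mem_normalizer_conj (inv_mem hy.1) ha)]; congr 1; group,
        fun e he => by
          obtain ⟨b, hb⟩ := hy.2.2 e he
          refine ⟨b, ?_⟩
          rw [← mul_inv_eq_iff_eq_mul, D.v_inv, ← hcV y hy.1 hy.2.1 b, conj_mul] at hb
          conv_lhs => rw [← hb]
          group⟩ }
  let p : G → F := fun y => D.γ (D.t * (y * D.t * y⁻¹))
  have hp1 : ∀ {y b}, y * D.t * y⁻¹ = D.t * D.v b → p y = b := fun {y b} e => by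
    simp only [p]
    rw [e, ← mul_assoc, D.t_sq, one_mul, D.γ_v]
  have hp2 : ∀ y ∈ Y, ∀ e ∈ D.E, y * e * y⁻¹ = e * D.v (p y * x e) := fun y hy e he => by
    obtain ⟨l, hl⟩ := hcj y hy.1
    have key : ∀ e ∈ D.E, y * e * y⁻¹ = e * D.v (l * x e) := fun e he => by
      obtain ⟨e', he', h1⟩ := hl e he
      obtain ⟨b, h2⟩ := hy.2.2 e he
      rw [h1, (D.EV_inj he' he (h1.symm.trans h2)).1]
    rw [key e he, hp1 (key _ D.t_mem), hxt, mul_one]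
  have hp3 : ∀ y ∈ Y, y * D.t * y⁻¹ = D.t * D.v (p y) := fun y hy => by
    rw [hp2 y hy _ D.t_mem, hxt, mul_one]
  have hp : AddOn Y p := fun y hy y' hy' => hp1 (by
    rw [D.v_add, ← mul_assoc, ← hp3 y hy, ← hcV y hy.1 hy.2.1 (p y'), conj_mul, ← hp3 y' hy']; group)
  have hp0 : ∀ y, Commute y D.t → p y = 0 := fun y hy =>
    hp1 (by rw [conj_eq_of_commute hy, D.v_zero, mul_one])
  have hcY : ∀ y ∈ Ns D.TT, (∀ a ∈ D.TT, al (y * a * y⁻¹) = al a) → (∀ e ∈ D.E, Commute y e) → y ∈ Y :=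
    fun y h1 h2 h3 => ⟨h1, h2, fun e he =>
      ⟨0, by rw [conj_eq_of_commute (h3 e he), D.v_zero, mul_one]⟩⟩
  have hTY : D.TT ≤ Y := fun a ha =>
    hcY a (le_normalizer ha) (fun _ hb => hal.conj ha hb) fun _ => D.TT_E ha
  have hOY : D.O ≤ Y := fun o ho => hcY o
    (centralizer_le_normalizer _ (mem_Cs.2 fun _ => D.O_TT ho))
    (fun a ha => by rw [conj_eq_of_commute (D.O_TT ho ha)]) fun _ => D.O_E ho
  have hHY : ∀ k ∈ D.H, ∀ y ∈ Y, k * y * k⁻¹ ∈ Y := fun k hk y hy => by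
    have hk' := D.H_le_TT hk
    refine ⟨mul_mem (mul_mem hk' hy.1) (inv_mem hk'), fun a ha => ?_, fun e he => ?_⟩
    · have h1 := mem_normalizer_conj' hk' ha
      have h2 := (hH k hk _ h1).1
      rw [← hy.2.1 _ h1, ← (hH k hk _ (mem_normalizer_conj hy.1 h1)).1] at h2
      convert h2.symm using 2 <;> group
    · obtain ⟨b, hb⟩ := hy.2.2 e he
      refine ⟨τ.N (D.χ k) * b, ?_⟩
      rw [← D.H_v hk]
      conv_rhs => rw [← conj_eq_of_commute (D.E_H he hk).symm, conj_mul, ← hb]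
      conv_lhs => rw [← conj_eq_of_commute (D.E_H he hk).symm]
      group
  have hpH : ∀ k ∈ D.H, ∀ y ∈ Y, p (k * y * k⁻¹) = τ.N (D.χ k) * p y := fun k hk y hy => hp1 (by
    rw [← D.H_v hk]
    conv_rhs => rw [← conj_eq_of_commute (D.t_H k hk), conj_mul, ← hp3 y hy]
    conv_lhs => rw [← conj_eq_of_commute (D.t_H k hk)]
    group)
  obtain ⟨S, two, hTS, hSY, hN, hO, hker, hex⟩ := D.mk_level τ.addF (N := Ns D.TT ⊓ Ns Y) D.two_TT
    le_rfl (fun _ ho _ => D.O_TT ho) inf_le_left hTY hOY (le_inf (fun _ hy => hy.1) le_normalizer)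
    inf_le_right p hp (fun o ho => hp0 o (D.O_t o ho)) fun y hy h0 => by
      have h1 : Commute y D.t := commute_of_conj_eq (by rw [hp3 y hy, h0, D.v_zero, mul_one])
      have h3 := D.mem_Ns_E (g := y) fun e he => commute_of_conj_eq (by
        rw [hp2 y hy e he, h0, zero_mul, D.v_zero, mul_one])
      have h2 := D.mem_Ns_Q h3 (D.Ns_TT_le hy.1)
      obtain ⟨e, he, z, hz, o, ho, rfl⟩ := D.cent y h3 h1 ⟨h2, fun a ha => by
        rw [← alQ _ (mem_normalizer_conj h2 ha), hy.2.1 a (D.Q_le_TT ha), alQ a ha]⟩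
      exact ⟨_, D.mem_TT.2 ⟨e, he, z, hz, rfl⟩, o, ho, rfl⟩
  have hHS : ∀ k ∈ D.H, ∀ y ∈ S, k * y * k⁻¹ ∈ S := fun k hk y hy =>
    mem_normalizer_conj (hN ⟨D.H_le_TT hk, mem_Ns (hHY k hk)⟩) hy
  obtain ⟨y0, hy0, hy1⟩ : ∃ y ∈ S, p y ≠ 0 := by
    let C : CF G τ.B := ⟨D.TT, D.v, al, D.v_add, D.v_inj, hal, fun u => by
      obtain ⟨a, ha, e⟩ := D.α_surj u
      exact ⟨a, D.Q_le_TT ha, by rw [alQ a ha, e]⟩,
      (comm_of_sq τ.addF hal D.v_add (fun b => D.Q_le_TT (D.v_mem b))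
        (fun b => by rw [alQ _ (D.v_mem b), D.α_v]) τ.N (fun a c => τ.B a c) τ.N_add hsq).2⟩
    obtain ⟨σ, μ, f, -, hf, -, hπ, -⟩ := C.act τ.symp hg
    change ∀ a ∈ D.TT, al (g * a * g⁻¹) = f (al a) at hπ
    obtain ⟨l, hl0, hl1⟩ := exists_ne_01 D.big
    obtain ⟨k, hk, hχ⟩ := D.χ_F l hl0
    obtain ⟨k', hk', hχ'⟩ := D.χ_F (σ l) ((map_ne_zero σ).2 hl0)
    have hkT := D.H_le_TT hk
    have hkT' := D.H_le_TT hk'
    have h1 : ∀ e ∈ D.E, ∃ e' ∈ D.E, ∃ b, g⁻¹ * e * g = e' * D.v b ∧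
        g * k * g⁻¹ * k'⁻¹ * e * (g * k * g⁻¹ * k'⁻¹)⁻¹ =
          e * (g * D.v (b + l * l * b) * g⁻¹) := fun e he => by
      obtain ⟨e', he', b, hb⟩ := D.conj_E (inv_mem hg) he
      rw [inv_inv] at hb
      refine ⟨e', he', b, hb, ?_⟩
      have h2 : k * (g⁻¹ * e * g) * k⁻¹ = g⁻¹ * e * g * D.v (b + l * l * b) := by
        rw [hb, ← conj_mul, D.H_v hk, conj_eq_of_commute (D.E_H he' hk).symm, hχ, τ.N_alg,
          mul_assoc e', ← D.v_add, ← add_assoc, τ.addF, zero_add]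
      calc _ = g * (k * (g⁻¹ * (k'⁻¹ * e * k'⁻¹⁻¹) * g) * k⁻¹) * g⁻¹ := by group
        _ = _ := by rw [conj_eq_of_commute (D.E_H he hk').symm.inv_left, h2]; group
    have hcY : g * k * g⁻¹ * k'⁻¹ ∈ Y := by
      refine ⟨mul_mem (mul_mem (mul_mem hg hkT) (inv_mem hg)) (inv_mem hkT'), fun a ha => ?_,
        fun e he => ?_⟩
      · have a1 := mem_normalizer_conj' hkT' ha
        have a2 := mem_normalizer_conj' hg a1
        have e1 := (hH k' hk' _ a1).1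
        have e2 := hπ _ a2
        have e3 := hπ _ (mem_normalizer_conj hkT a2)
        rw [(hH k hk _ a2).1, hχ, ← Algebra.smul_def, hf, ← e2, Algebra.smul_def, ← hχ',
          show g * (g⁻¹ * (k'⁻¹ * a * k') * g) * g⁻¹ = k'⁻¹ * a * k' by group, ← e1] at e3
        convert e3 using 2 <;> group
      · obtain ⟨-, -, b, -, h2⟩ := h1 e he
        obtain ⟨b', hb'⟩ := mem_normalizer_conj (D.Ns_TT_le hg) (D.v_mem_V (b + l * l * b))
        exact ⟨b', by rw [h2, hb']⟩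
    obtain ⟨y, hy, e⟩ := hex _ hcY fun o ho =>
      D.scalar_O (D.Ns_le_O le_rfl (fun _ ho _ => D.O_TT ho) hg) hk hk' ho
    refine ⟨y, hy, fun h0 => ?_⟩
    obtain ⟨e', he', b, h2, h3⟩ := h1 _ D.t_mem
    rw [hp3 _ hcY, ← e, h0, D.v_zero, mul_right_inj, eq_comm, conj_eq_one_iff, D.v_eq_one,
      τ.add_eq_zeroF, eq_comm, mul_left_eq_self₀] at h3
    rcases h3 with h3 | rfl
    · exact hl1 (τ.sq_inj (h3.trans (mul_one 1).symm))
    · rw [D.v_zero, mul_one] at h2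
      exact hgE (inv_mem_iff.1 (D.E_ti D.two_TT D.E_le_TT (inv_mem hg) D.t_mem D.t_ne
        (by rwa [inv_inv, h2])))
  refine ⟨x, p, S, hx, hxt, hxi, two, hTS, fun y hy => ?_, hp.mono hSY,
    fun y hy => ⟨hker y hy, fun h1 => hp0 y (D.TT_t h1)⟩, fun c => ?_,
    fun y hy => hp2 y (hSY hy), fun k hk y hy => ⟨hHS k hk y hy, hpH k hk y (hSY hy)⟩, hO⟩
  · have hy' := hSY hy
    obtain ⟨ρ, hρ, hρ1, hρ2⟩ := D.χ_ω
    have cT : ∀ a ∈ D.Q, y * a * y⁻¹ ∈ D.TT := fun a ha => mem_normalizer_conj hy'.1 (D.Q_le_TT ha)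
    obtain ⟨r, hr, hr'⟩ := exists_factor (φ := fun a => x' (y * a * y⁻¹)) D.α_add
      (fun a ha a' ha' => by rw [← hx' _ (cT a ha) _ (cT a' ha'), conj_mul]) D.α_surj
      fun a ha h0 => by
        obtain ⟨b, rfl⟩ := D.ker a ha h0
        rw [hcV y hy'.1 hy'.2.1, ← one_mul (D.v b), (hc 1 (one_mem _) _ ha).2, hx.one]
    have hδ : y⁻¹ * (ρ⁻¹ * y * ρ⁻¹⁻¹) ∈ D.TT := by
      have h1 := hHS _ (inv_mem hρ) y hy
      refine hker _ (mul_mem (inv_mem hy) h1) ?_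
      have h2 : τ.N (D.χ ρ⁻¹) = 1 := by
        rw [← mul_one (τ.N _), ← hρ1, ← τ.N_mul, ← D.χ_mul (inv_mem hρ) hρ, inv_mul_cancel,
          D.χ_one, hρ1, τ.N_one]
      rw [hp _ (inv_mem hy') _ (hSY h1), hp.inv hy', hpH _ (inv_mem hρ) y hy', h2, one_mul,
        neg_add_cancel]
    have h0 := τ.add_ω r hr hρ2 fun a => by
      obtain ⟨a, ha, rfl⟩ := D.α_surj a
      have ha' := D.Q_le_Tr0.trans D.Tr0_le
      obtain ⟨e, he, z, hz, e1⟩ := D.mem_TT.1 hδ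
      have h1 := mem_normalizer_conj (ha' hz) ha
      rw [← D.χ_act ρ hρ a ha, ← hr' _ (mem_normalizer_conj (D.H_Q hρ) ha),
        ← D.α_add.conj hz ha, ← hr' _ h1, ← (hH ρ hρ _ (cT _ h1)).2,
        ← conj_eq_of_commute (D.E_Q he h1)]
      congr 1
      rw [show e * (z * a * z⁻¹) * e⁻¹ = e * z * a * (e * z)⁻¹ by group, ← e1]
      group
    have h1 : ∀ a ∈ D.Q, y * a * y⁻¹ ∈ D.Q := fun a ha => by
      obtain ⟨e, he, z, hz, e1⟩ := D.mem_TT.1 (cT a ha)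
      have := hr' a ha
      rw [h0, e1, (hc e he z hz).2] at this
      rwa [e1, hxi e he this, one_mul]
    exact ⟨mem_Ns h1, fun a ha => by
      rw [← alQ _ (h1 a ha), hy'.2.1 a (D.Q_le_TT ha), alQ a ha]⟩
  · by_cases h0 : c = 0
    · exact ⟨1, one_mem _, h0 ▸ hp.one⟩
    obtain ⟨k, hk, e⟩ := D.exists_N (div_ne_zero h0 hy1)
    exact ⟨_, hHS k hk y0 hy0, by rw [hpH k hk _ (hSY hy0), e, div_mul_cancel₀ _ hy1]⟩

end Dat

end Cfsg.Lib.GMS.U3
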